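import Groth.Agent.HP.DevStep
import Groth.Agent.RGFlat.FibreReg
import Groth.Agent.FlatMor62.AboveClosed
import Groth.Agent.S1223
import Groth.Agent.QGorLib.FourTermFlat
import Mathlib.RingTheory.TensorProduct.Free
import Mathlib.LinearAlgebra.TensorProduct.Quotient

/-!
The flattening ideal: base changes to local algebras over a local ring.
-/

set_option autoImplicit false
set_option linter.style.haveILetI false

universe u

open TensorProduct IsLocalRing

attribute [local instance] Algebra.TensorProduct.rightAlgebra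

namespace Groth.Agent.FlatLocusIdeal

variable {A B : Type u} [CommRing A] [CommRing B] [Algebra A B]

/-- The base change of `M` is flat at all the primes above `q` and the closed point of `A'`. -/
def Good (A : Type u) {B : Type u} [CommRing A] [CommRing B] [Algebra A B] (q : Ideal B)
    (M : Type u) [AddCommGroup M] [Module B M] (A' : Type u) [CommRing A'] [IsLocalRing A'] [Algebra A A'] : Prop :=
  ∀ (Q : Ideal (A' ⊗[A] B)) [Q.IsPrime], Q.comap (algebraMap B (A' ⊗[A] B)) = q →
    Q.comap (algebraMap A' (A' ⊗[A] B)) = maximalIdeal A' → FlatCA.FlatAt A' Q ((A' ⊗[A] B) ⊗[B] M)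

/-- There are primes above `q` and the closed point. -/
theorem exists_prime [IsLocalRing A] (q : Ideal B) [q.IsPrime] [q.LiesOver (maximalIdeal A)]
    (A' : Type u) [CommRing A'] [IsLocalRing A'] [Algebra A A'] [IsLocalHom (algebraMap A A')] :
    ∃ Q : Ideal (A' ⊗[A] B), Q.IsPrime ∧ Q.comap (algebraMap B (A' ⊗[A] B)) = q ∧
      Q.comap (algebraMap A' (A' ⊗[A] B)) = maximalIdeal A' := by
  haveI : Algebra.IsPushout A B A' (A' ⊗[A] B) := Algebra.IsPushout.symm inferInstance
  exact FlatMor.FlatAtBC.exists_prime_of_pushout (maximalIdeal A) q (maximalIdeal A')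
    (q.over_def (maximalIdeal A)).symm (IsLocalRing.maximalIdeal_comap _)

/-- An element lies in the extension of the maximal ideal if it does so after a local base change. -/
theorem mem_map_of_mem [IsLocalRing A] [Module.Free A B] (A' : Type u) [CommRing A'] [IsLocalRing A']
    [Algebra A A'] [IsLocalHom (algebraMap A A')] (b : B)
    (hb : algebraMap B (A' ⊗[A] B) b ∈ (maximalIdeal A').map (algebraMap A' (A' ⊗[A] B))) :
    b ∈ (maximalIdeal A).map (algebraMap A B) := by
  classical
  let β := Module.Free.chooseBasis A B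
  let β' := β.baseChange A'
  have key : ∀ z ∈ (maximalIdeal A').map (algebraMap A' (A' ⊗[A] B)), ∀ j, β'.repr z j ∈ maximalIdeal A' := by
    intro z hz j
    have hz' : z ∈ maximalIdeal A' • (⊤ : Submodule A' (A' ⊗[A] B)) := by
      rw [Ideal.smul_top_eq_map]; exact hz
    refine Submodule.smul_induction_on hz' (fun a ha x _ => ?_) fun x y hx hy => ?_
    · rw [map_smul, Finsupp.smul_apply, smul_eq_mul]
      exact Ideal.mul_mem_right _ _ ha
    · rw [map_add, Finsupp.add_apply]
      exact add_mem hx hy
  rw [← β.linearCombination_repr b, Finsupp.linearCombination_apply, Finsupp.sum]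
  refine Ideal.sum_mem _ fun j _ => ?_
  rw [Algebra.smul_def]
  refine Ideal.mul_mem_right _ _ (Ideal.mem_map_of_mem _ ?_)
  have h1 := key _ hb j
  rw [show algebraMap B (A' ⊗[A] B) b = (1 : A') ⊗ₜ[A] b from rfl, Module.Basis.baseChange_repr_tmul,
    ← Algebra.algebraMap_eq_smul_one] at h1
  exact fun h => h1 (h.map (algebraMap A A'))

/-- The extension of the maximal ideal is prime for geometrically integral fibres. -/
theorem isPrime_map (hgeom : ∀ (K : Type u) [Field K] [Algebra A K], IsDomain (K ⊗[A] B)) (A' : Type u) [CommRing A']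
    [IsLocalRing A'] [Algebra A A'] : ((maximalIdeal A').map (algebraMap A' (A' ⊗[A] B))).IsPrime := by
  haveI := hgeom (ResidueField A')
  let res : A' →ₐ[A] ResidueField A' := { residue A' with commutes' := fun _ => rfl }
  have hres : Function.Surjective res := residue_surjective
  have h := Algebra.TensorProduct.rTensor_ker (R := A) (S := A) (C := B) res hres
  have hk : RingHom.ker res = maximalIdeal A' := by
    ext x
    exact residue_eq_zero_iff x
  rw [hk] at h
  have h' : (maximalIdeal A').map (algebraMap A' (A' ⊗[A] B)) =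
      RingHom.ker (Algebra.TensorProduct.map res (AlgHom.id A B)) := h.symm
  rw [h']
  exact RingHom.ker_isPrime _

variable {M : Type u} [AddCommGroup M] [Module B M]

/-- The base change of a map from a free module. -/
noncomputable def bcMap (A : Type u) [CommRing A] [Algebra A B] {r : ℕ} (α : (Fin r → B) →ₗ[B] M) (A' : Type u) [CommRing A'] [Algebra A A'] :
    (Fin r → A' ⊗[A] B) →ₗ[A' ⊗[A] B] (A' ⊗[A] B) ⊗[B] M :=
  Fintype.linearCombination (A' ⊗[A] B) fun i => (1 : A' ⊗[A] B) ⊗ₜ[B] α (Pi.single i 1)

theorem bcMap_single {r : ℕ} (α : (Fin r → B) →ₗ[B] M) (A' : Type u) [CommRing A'] [Algebra A A']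
    (i : Fin r) (x : A' ⊗[A] B) :
    bcMap A α A' (Pi.single i x) = x ⊗ₜ[B] α (Pi.single i 1) := by
  rw [bcMap, Fintype.linearCombination_apply_single, TensorProduct.smul_tmul', smul_eq_mul, mul_one]

theorem bcMap_map {r : ℕ} (α : (Fin r → B) →ₗ[B] M) (A' : Type u) [CommRing A'] [Algebra A A']
    (y : Fin r → B) :
    bcMap A α A' (fun i => algebraMap B (A' ⊗[A] B) (y i)) = (1 : A' ⊗[A] B) ⊗ₜ[B] α y := by
  rw [bcMap, Fintype.linearCombination_apply]
  conv_rhs => rw [pi_eq_sum_univ' y, map_sum, TensorProduct.tmul_sum]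
  refine Finset.sum_congr rfl fun i _ => ?_
  rw [map_smul, ← TensorProduct.smul_tmul, TensorProduct.smul_tmul', smul_eq_mul, mul_one,
    Algebra.smul_def, mul_one]

/-- Right exactness of the base change. -/
theorem exact_bcMap {C : Type u} [AddCommGroup C] [Module B C] {r : ℕ} (α : (Fin r → B) →ₗ[B] M)
    (π : M →ₗ[B] C) (hπ : Function.Surjective π) (hex : Function.Exact α π)
    (A' : Type u) [CommRing A'] [Algebra A A'] :
    Function.Exact (bcMap A α A') (π.baseChange (A' ⊗[A] B)) := by
  intro z
  constructor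
  · intro hz
    obtain ⟨w, rfl⟩ := (lTensor_exact (A' ⊗[A] B) hex hπ z).mp hz
    clear hz
    induction w with
    | zero => exact ⟨0, by simp⟩
    | tmul s y =>
      refine ⟨s • fun i => algebraMap B (A' ⊗[A] B) (y i), ?_⟩
      rw [map_smul, bcMap_map, LinearMap.lTensor_tmul, TensorProduct.smul_tmul', smul_eq_mul, mul_one]
    | add a b ha hb =>
      obtain ⟨va, ha⟩ := ha
      obtain ⟨vb, hb⟩ := hb
      exact ⟨va + vb, by rw [map_add, map_add, ha, hb]⟩
  · rintro ⟨v, rfl⟩
    rw [← Finset.univ_sum_single v, map_sum, map_sum]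
    refine Finset.sum_eq_zero fun i _ => ?_
    rw [bcMap_single, LinearMap.baseChange_tmul, hex.apply_apply_eq_zero, TensorProduct.tmul_zero]

end Groth.Agent.FlatLocusIdeal
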