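import Groth.Agent.FlatLocusIdeal.Basic

/-!
Transfer of flatness above the closed points along finite algebras, flat algebras and base change.
-/

set_option autoImplicit false
set_option linter.style.haveILetI false

universe u

open TensorProduct IsLocalRing

attribute [local instance] Algebra.TensorProduct.rightAlgebra

namespace Groth.Agent.FlatLocusIdeal

/-- Flatness at a prime of a flat extension of the base-changed algebra. -/
theorem flatAt_iff_tensor {A' B B₁ B₂ : Type u} [CommRing A'] [CommRing B] [CommRing B₁] [CommRing B₂]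
    [Algebra B B₁] [Algebra B B₂] [Algebra B₁ B₂] [IsScalarTower B B₁ B₂] [Module.Flat B₁ B₂]
    [Algebra A' B₁] [Algebra A' B₂] [IsScalarTower A' B₁ B₂]
    (M : Type u) [AddCommGroup M] [Module B M]
    (N : Type u) [AddCommGroup N] [Module B₂ N] [Module A' N] [IsScalarTower A' B₂ N] [Module B N]
    [IsScalarTower B B₂ N] (f : M →ₗ[B] N) (hf : IsBaseChange B₂ f)
    (q₁ : Ideal B₁) [q₁.IsPrime] (q₂ : Ideal B₂) [q₂.IsPrime] [q₂.LiesOver q₁] :
    FlatCA.FlatAt A' q₂ N ↔ FlatCA.FlatAt A' q₁ (B₁ ⊗[B] M) := by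
  letI : Module B₁ N := Module.compHom N (algebraMap B₁ B₂)
  haveI : IsScalarTower B₁ B₂ N := IsScalarTower.of_algebraMap_smul fun _ _ => rfl
  haveI : IsScalarTower B B₁ N := IsScalarTower.of_algebraMap_smul fun b x => by
    rw [← IsScalarTower.algebraMap_smul B₂ (algebraMap B B₁ b), ← IsScalarTower.algebraMap_apply,
      IsScalarTower.algebraMap_smul]
  haveI : IsScalarTower A' B₁ N := IsScalarTower.of_algebraMap_smul fun a x => by
    rw [← IsScalarTower.algebraMap_smul B₂ (algebraMap A' B₁ a), ← IsScalarTower.algebraMap_apply,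
      IsScalarTower.algebraMap_smul]
  have hB : IsBaseChange B₁ ((TensorProduct.mk B B₁ M) 1) := TensorProduct.isBaseChange B M B₁
  let φ : B₁ ⊗[B] M →ₗ[B₁] N := hB.lift f
  have hφ : (φ.restrictScalars B).comp ((TensorProduct.mk B B₁ M) 1) = f := LinearMap.ext fun x => hB.lift_eq f x
  have hφb : IsBaseChange B₂ φ := IsBaseChange.of_comp hB (by
    rw [show ((φ : B₁ ⊗[B] M →ₗ[B] N) ∘ₗ (TensorProduct.mk B B₁ M) 1) = f from hφ]; exact hf)
  exact FlatMor62.AboveClosed.flatAt_iff_of_flat (B₁ ⊗[B] M) N φ hφb q₁ q₂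

/-- Flatness at a prime of the base-changed algebra and at the primes of a finite extension above it. -/
theorem flatAt_iff_finite {A' B B₁ T T₁ : Type u} [CommRing A'] [CommRing B] [CommRing B₁] [CommRing T] [CommRing T₁]
    [Algebra B T] [Module.Finite B T] [Algebra B B₁] [Algebra T T₁] [Algebra B₁ T₁] [Algebra B T₁]
    [IsScalarTower B T T₁] [IsScalarTower B B₁ T₁] [Algebra.IsPushout B T B₁ T₁]
    [Algebra A' B₁] [Algebra A' T₁] [IsScalarTower A' B₁ T₁]
    (M : Type u) [AddCommGroup M] [Module T M] [Module B M] [IsScalarTower B T M]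
    (N : Type u) [AddCommGroup N] [Module T₁ N] [Module T N] [IsScalarTower T T₁ N] [Module A' N]
    [IsScalarTower A' T₁ N] (f : M →ₗ[T] N) (hf : IsBaseChange T₁ f) (p : Ideal B₁) [p.IsPrime] :
    FlatCA.FlatAt A' p (B₁ ⊗[B] M) ↔
      ∀ (P : Ideal T₁) [P.IsPrime], P.comap (algebraMap B₁ T₁) = p → FlatCA.FlatAt A' P N := by
  haveI hp' : Algebra.IsPushout B B₁ T T₁ := Algebra.IsPushout.symm ‹_›
  haveI : Module.Finite B₁ T₁ := Module.Finite.equiv (IsBaseChange.equiv hp'.out)
  haveI : Algebra.IsIntegral B₁ T₁ := Algebra.IsIntegral.of_finite _ _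
  letI : Module B₁ N := Module.compHom N (algebraMap B₁ T₁)
  haveI : IsScalarTower B₁ T₁ N := IsScalarTower.of_algebraMap_smul fun _ _ => rfl
  haveI : IsScalarTower A' B₁ N := IsScalarTower.of_algebraMap_smul fun a x => by
    rw [← IsScalarTower.algebraMap_smul T₁ (algebraMap A' B₁ a), ← IsScalarTower.algebraMap_apply,
      IsScalarTower.algebraMap_smul]
  let e' : N ≃ₗ[B₁] B₁ ⊗[B] M :=
    (hf.equiv.symm.restrictScalars B₁).trans (Algebra.IsPushout.cancelBaseChange B B₁ T T₁ M)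
  let e := ((HP.locEquiv p.primeCompl e').restrictScalars B₁).restrictScalars A'
  have hiff : FlatCA.FlatAt A' p (B₁ ⊗[B] M) ↔ FlatCA.FlatAt A' p N :=
    ⟨fun hM => by
      haveI : Module.Flat A' (LocalizedModule p.primeCompl (B₁ ⊗[B] M)) := hM
      exact Module.Flat.of_linearEquiv e,
    fun hN => by
      haveI : Module.Flat A' (LocalizedModule p.primeCompl N) := hN
      exact Module.Flat.of_linearEquiv e.symm⟩
  exact hiff.trans (FlatMor62.AboveClosed.flatAt_iff_of_integral N p)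

/-- Flatness above the closed points along a finite algebra with one prime over `q`. -/
theorem good_iff_of_finite {A B T : Type u} [CommRing A] [CommRing B] [CommRing T] [Algebra A B] [Algebra A T]
    [Algebra B T] [IsScalarTower A B T] [Module.Finite B T]
    (M : Type u) [AddCommGroup M] [Module T M] [Module B M] [IsScalarTower B T M]
    (q : Ideal B) (z : Ideal T) (hz : z.comap (algebraMap B T) = q)
    (huniq : ∀ (P : Ideal T) [P.IsPrime], P.comap (algebraMap B T) = q → P = z)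
    (A' : Type u) [CommRing A'] [IsLocalRing A'] [Algebra A A'] :
    Good A q M A' ↔ Good A z M A' := by
  haveI : Algebra.IsPushout A B A' (A' ⊗[A] B) := Algebra.IsPushout.symm inferInstance
  haveI : Algebra.IsPushout A T A' (A' ⊗[A] T) := Algebra.IsPushout.symm inferInstance
  let h := Algebra.TensorProduct.map (AlgHom.id A' A') (IsScalarTower.toAlgHom A B T)
  have hB : ∀ b, h (algebraMap B (A' ⊗[A] B) b) = algebraMap T (A' ⊗[A] T) (algebraMap B T b) := fun b => rfl
  letI : Algebra (A' ⊗[A] B) (A' ⊗[A] T) := h.toRingHom.toAlgebra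
  letI : Algebra B (A' ⊗[A] T) := ((algebraMap T (A' ⊗[A] T)).comp (algebraMap B T)).toAlgebra
  haveI : IsScalarTower B T (A' ⊗[A] T) := IsScalarTower.of_algebraMap_eq fun _ => rfl
  haveI : IsScalarTower B (A' ⊗[A] B) (A' ⊗[A] T) := IsScalarTower.of_algebraMap_eq fun b => (hB b).symm
  haveI : IsScalarTower A' (A' ⊗[A] B) (A' ⊗[A] T) := IsScalarTower.of_algebraMap_eq fun a => (h.commutes a).symm
  haveI : IsScalarTower A (A' ⊗[A] B) (A' ⊗[A] T) := IsScalarTower.of_algebraMap_eq fun a => by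
    rw [IsScalarTower.algebraMap_apply A A' (A' ⊗[A] B), ← IsScalarTower.algebraMap_apply A' (A' ⊗[A] B) (A' ⊗[A] T),
      ← IsScalarTower.algebraMap_apply A A' (A' ⊗[A] T)]
  haveI hp' : Algebra.IsPushout B T (A' ⊗[A] B) (A' ⊗[A] T) :=
    (Algebra.IsPushout.comp_iff (R := A) (S := B) (R' := A') (S' := A' ⊗[A] B) (T := T) (T' := A' ⊗[A] T)).mp inferInstance
  have key := fun (p : Ideal (A' ⊗[A] B)) (_ : p.IsPrime) => flatAt_iff_finite (A' := A') (B := B) (B₁ := A' ⊗[A] B)
    (T := T) (T₁ := A' ⊗[A] T) M ((A' ⊗[A] T) ⊗[T] M) (TensorProduct.mk T (A' ⊗[A] T) M 1)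
    (TensorProduct.isBaseChange T M (A' ⊗[A] T)) p
  constructor
  · intro hM P _ hPz hPm
    refine (key (P.comap h.toRingHom) (Ideal.comap_isPrime _ _)).mp (hM _ ?_ ?_) P rfl
    · rw [← hz, ← hPz]
      rfl
    · ext a
      show h (algebraMap A' (A' ⊗[A] B) a) ∈ P ↔ _
      rw [h.commutes, ← hPm]
      exact Iff.rfl
  · intro hN p _ hpq hpm
    refine (key p inferInstance).mpr fun P hP hPp => ?_
    haveI := hP
    refine hN P (huniq (P.comap (algebraMap T (A' ⊗[A] T))) ?_) ?_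
    · rw [← hpq, ← hPp]
      rfl
    · ext a
      rw [← hpm, ← hPp, Ideal.mem_comap, Ideal.mem_comap, Ideal.mem_comap, ← IsScalarTower.algebraMap_apply]

/-- Flatness above the closed points over an algebra with one prime above the points. -/
theorem good_iff_baseChange {R A B : Type u} [CommRing R] [CommRing A] [CommRing B] [Algebra R A] [Algebra R B]
    (M : Type u) [AddCommGroup M] [Module B M]
    (q : Ideal B) (qA : Ideal (A ⊗[R] B)) (hq : qA.comap (algebraMap B (A ⊗[R] B)) = q)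
    (A' : Type u) [CommRing A'] [IsLocalRing A'] [Algebra A A'] [Algebra R A'] [IsScalarTower R A A']
    (huniq : ∀ (P : Ideal (A ⊗[R] B)) [P.IsPrime], P.comap (algebraMap B (A ⊗[R] B)) = q →
      P.comap (algebraMap A (A ⊗[R] B)) = (maximalIdeal A').comap (algebraMap A A') → P = qA) :
    Good R q M A' ↔ Good A qA ((A ⊗[R] B) ⊗[B] M) A' := by
  let B₁ := A' ⊗[R] B
  let B₂ := A' ⊗[A] (A ⊗[R] B)
  let c := Algebra.TensorProduct.cancelBaseChange R A A' A' B
  letI : Algebra B₁ B₂ := c.symm.toAlgHom.toRingHom.toAlgebra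
  letI : Algebra B B₂ := ((algebraMap (A ⊗[R] B) B₂).comp (algebraMap B (A ⊗[R] B))).toAlgebra
  haveI : IsScalarTower B (A ⊗[R] B) B₂ := IsScalarTower.of_algebraMap_eq fun _ => rfl
  haveI : IsScalarTower B B₁ B₂ := IsScalarTower.of_algebraMap_eq fun b => by
    show (1 : A') ⊗ₜ[A] ((1 : A) ⊗ₜ[R] b) = c.symm ((1 : A') ⊗ₜ[R] b)
    rw [eq_comm, AlgEquiv.symm_apply_eq]
    simp [c]
  haveI : IsScalarTower A' B₁ B₂ := IsScalarTower.of_algebraMap_eq fun a => (c.symm.commutes a).symm
  haveI : Module.Flat B₁ B₂ := Module.Flat.of_linearEquiv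
    (LinearEquiv.ofBijective (Algebra.linearMap B₁ B₂) c.symm.bijective).symm
  let N := B₂ ⊗[A ⊗[R] B] ((A ⊗[R] B) ⊗[B] M)
  haveI : IsScalarTower B B₂ N := IsScalarTower.of_algebraMap_smul fun b x => by
    rw [IsScalarTower.algebraMap_apply B (A ⊗[R] B) B₂, IsScalarTower.algebraMap_smul, IsScalarTower.algebraMap_smul]
  let f : M →ₗ[B] N := ((TensorProduct.mk (A ⊗[R] B) B₂ ((A ⊗[R] B) ⊗[B] M) 1).restrictScalars B).comp
    (TensorProduct.mk B (A ⊗[R] B) M 1)
  have hf : IsBaseChange B₂ f :=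
    (TensorProduct.isBaseChange B M (A ⊗[R] B)).comp (TensorProduct.isBaseChange (A ⊗[R] B) _ B₂)
  have key := @flatAt_iff_tensor A' B B₁ B₂ _ _ _ _ _ _ _ _ _ _ _ _ M _ _ N _ _ _ _ _ _ f hf
  constructor
  · intro hM Q _ hQq hQm
    haveI : Q.LiesOver (Q.comap (algebraMap B₁ B₂)) := ⟨rfl⟩
    refine (key (Q.comap (algebraMap B₁ B₂)) Q).mpr (hM _ ?_ ?_)
    · rw [← hq, ← hQq, Ideal.comap_comap, Ideal.comap_comap, ← IsScalarTower.algebraMap_eq,
        ← IsScalarTower.algebraMap_eq]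
    · rw [Ideal.comap_comap, ← IsScalarTower.algebraMap_eq, hQm]
  · intro hN p _ hpq hpm
    let Q : Ideal B₂ := p.comap (c.toAlgHom.toRingHom)
    haveI : Q.IsPrime := Ideal.comap_isPrime _ _
    have hQp : Q.comap (algebraMap B₁ B₂) = p := by
      ext x
      show c (c.symm x) ∈ p ↔ x ∈ p
      rw [AlgEquiv.apply_symm_apply]
    haveI : Q.LiesOver p := ⟨hQp.symm⟩
    refine (key p Q).mp (hN Q ?_ ?_)
    · refine huniq _ ?_ ?_
      · rw [← hpq]
        ext b
        rw [Ideal.mem_comap, Ideal.mem_comap, ← IsScalarTower.algebraMap_apply B (A ⊗[R] B) B₂ b,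
          IsScalarTower.algebraMap_apply B B₁ B₂ b]
        exact SetLike.ext_iff.mp hQp _
      · rw [← hpm]
        ext a
        rw [Ideal.mem_comap, Ideal.mem_comap, Ideal.mem_comap, Ideal.mem_comap,
          show algebraMap (A ⊗[R] B) B₂ (algebraMap A (A ⊗[R] B) a) = algebraMap A' B₂ (algebraMap A A' a) from
            ((Algebra.TensorProduct.includeRight (R := A) (A := A') (B := A ⊗[R] B)).commutes a).trans
              (IsScalarTower.algebraMap_apply A A' B₂ a), IsScalarTower.algebraMap_apply A' B₁ B₂]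
        exact SetLike.ext_iff.mp hQp _
    · rw [← hpm]
      ext a
      rw [Ideal.mem_comap, IsScalarTower.algebraMap_apply A' B₁ B₂ a]
      exact SetLike.ext_iff.mp hQp _

/-- Flatness above the closed points along a flat algebra. -/
theorem good_iff_of_flat {A B T : Type u} [CommRing A] [CommRing B] [CommRing T] [Algebra A B] [Algebra A T]
    [Algebra B T] [IsScalarTower A B T] [Module.Flat B T]
    (M : Type u) [AddCommGroup M] [Module B M]
    (q : Ideal B) [q.IsPrime] (z : Ideal T) [z.IsPrime] (hz : z.comap (algebraMap B T) = q)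
    (A' : Type u) [CommRing A'] [IsLocalRing A'] [Algebra A A'] :
    Good A q M A' ↔ Good A z (T ⊗[B] M) A' := by
  haveI : Algebra.IsPushout A B A' (A' ⊗[A] B) := Algebra.IsPushout.symm inferInstance
  haveI : Algebra.IsPushout A T A' (A' ⊗[A] T) := Algebra.IsPushout.symm inferInstance
  let h := Algebra.TensorProduct.map (AlgHom.id A' A') (IsScalarTower.toAlgHom A B T)
  letI : Algebra (A' ⊗[A] B) (A' ⊗[A] T) := h.toRingHom.toAlgebra
  letI : Algebra B (A' ⊗[A] T) := ((algebraMap T (A' ⊗[A] T)).comp (algebraMap B T)).toAlgebra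
  haveI : IsScalarTower B T (A' ⊗[A] T) := IsScalarTower.of_algebraMap_eq fun _ => rfl
  haveI : IsScalarTower B (A' ⊗[A] B) (A' ⊗[A] T) := IsScalarTower.of_algebraMap_eq fun b => rfl
  haveI : IsScalarTower A' (A' ⊗[A] B) (A' ⊗[A] T) := IsScalarTower.of_algebraMap_eq fun a => (h.commutes a).symm
  haveI : IsScalarTower A (A' ⊗[A] B) (A' ⊗[A] T) := IsScalarTower.of_algebraMap_eq fun a => by
    rw [IsScalarTower.algebraMap_apply A A' (A' ⊗[A] B), ← IsScalarTower.algebraMap_apply A' (A' ⊗[A] B) (A' ⊗[A] T),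
      ← IsScalarTower.algebraMap_apply A A' (A' ⊗[A] T)]
  haveI hp' : Algebra.IsPushout B T (A' ⊗[A] B) (A' ⊗[A] T) :=
    (Algebra.IsPushout.comp_iff (R := A) (S := B) (R' := A') (S' := A' ⊗[A] B) (T := T) (T' := A' ⊗[A] T)).mp inferInstance
  haveI hp'' : Algebra.IsPushout B (A' ⊗[A] B) T (A' ⊗[A] T) := Algebra.IsPushout.symm hp'
  haveI : Module.Flat (A' ⊗[A] B) (A' ⊗[A] T) :=
    Module.Flat.of_linearEquiv (IsBaseChange.equiv hp''.out).symm
  let N := (A' ⊗[A] T) ⊗[T] (T ⊗[B] M)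
  haveI : IsScalarTower B (A' ⊗[A] T) N := IsScalarTower.of_algebraMap_smul fun b x => by
    rw [IsScalarTower.algebraMap_apply B T (A' ⊗[A] T), IsScalarTower.algebraMap_smul, IsScalarTower.algebraMap_smul]
  let f : M →ₗ[B] N := ((TensorProduct.mk T (A' ⊗[A] T) (T ⊗[B] M) 1).restrictScalars B).comp
    (TensorProduct.mk B T M 1)
  have hf : IsBaseChange (A' ⊗[A] T) f :=
    (TensorProduct.isBaseChange B M T).comp (TensorProduct.isBaseChange T _ (A' ⊗[A] T))
  have key := @flatAt_iff_tensor A' B (A' ⊗[A] B) (A' ⊗[A] T) _ _ _ _ _ _ _ _ _ _ _ _ M _ _ N _ _ _ _ _ _ f hf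
  constructor
  · intro hM P _ hPz hPm
    haveI : P.LiesOver (P.comap h.toRingHom) := ⟨rfl⟩
    refine (key (P.comap h.toRingHom) P).mpr (hM _ ?_ ?_)
    · rw [← hz, ← hPz]
      rfl
    · ext a
      show h (algebraMap A' (A' ⊗[A] B) a) ∈ P ↔ _
      rw [h.commutes, ← hPm]
      exact Iff.rfl
  · intro hN p _ hpq hpm
    obtain ⟨P, hP, hPz, hPp⟩ := FlatMor.FlatAtBC.exists_prime_of_pushout (R := B) (S := T)
      (R' := A' ⊗[A] B) (S' := A' ⊗[A] T) q z p hz hpq
    haveI := hP
    haveI : P.LiesOver p := ⟨hPp.symm⟩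
    refine (key p P).mp (hN P hPz ?_)
    rw [← hpm, ← hPp, Ideal.comap_comap, ← IsScalarTower.algebraMap_eq]

end Groth.Agent.FlatLocusIdeal
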