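import Groth.Agent.FlatLocusIdeal.Step
import Groth.Agent.FlatLocusIdeal.Transfer
import Groth.Agent.S0582

/-!
The flattening ideal of a module with a complete dévissage.
-/

set_option autoImplicit false
set_option linter.style.haveILetI false

universe u

open TensorProduct IsLocalRing

attribute [local instance] Algebra.TensorProduct.rightAlgebra

namespace Groth.Agent.FlatLocusIdeal

variable {R : Type u} [CommRing R]

/-- The existence of an ideal corepresenting flatness above `q`. -/
def HasIdeal (R : Type u) [CommRing R] (A : Type u) [CommRing A] [IsLocalRing A] [Algebra R A] {B : Type u} [CommRing B] [Algebra R B]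
    (q : Ideal B) (M : Type u) [AddCommGroup M] [Module B M] : Prop :=
  ∃ I : Ideal A, ∀ (A' : Type u) [CommRing A'] [IsLocalRing A'] [Algebra A A'] [IsLocalHom (algebraMap A A')]
    [Algebra R A'] [IsScalarTower R A A'], Good R q M A' ↔ I.map (algebraMap A A') = ⊥

theorem HasIdeal.of_iff {A : Type u} [CommRing A] [IsLocalRing A] [Algebra R A] {B B₁ : Type u} [CommRing B]
    [Algebra R B] [CommRing B₁] [Algebra R B₁] {q : Ideal B} {M : Type u} [AddCommGroup M] [Module B M]
    {q₁ : Ideal B₁} {M₁ : Type u} [AddCommGroup M₁] [Module B₁ M₁]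
    (h : ∀ (A' : Type u) [CommRing A'] [IsLocalRing A'] [Algebra R A'], Good R q M A' ↔ Good R q₁ M₁ A')
    (hI : HasIdeal R A q₁ M₁) : HasIdeal R A q M := by
  obtain ⟨I, hI⟩ := hI
  exact ⟨I, fun A' _ _ _ _ _ _ => (h A').trans (hI A')⟩

theorem good_congr {B : Type u} [CommRing B] [Algebra R B] {q : Ideal B} {M N : Type u} [AddCommGroup M]
    [Module B M] [AddCommGroup N] [Module B N] (e : M ≃ₗ[B] N) (A' : Type u) [CommRing A'] [IsLocalRing A']
    [Algebra R A'] : Good R q M A' ↔ Good R q N A' := by
  have key : ∀ (Q : Ideal (A' ⊗[R] B)) [Q.IsPrime],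
      FlatCA.FlatAt A' Q ((A' ⊗[R] B) ⊗[B] M) ↔ FlatCA.FlatAt A' Q ((A' ⊗[R] B) ⊗[B] N) := fun Q _ =>
    let e' := ((HP.locEquiv Q.primeCompl (AlgebraTensorModule.congr (LinearEquiv.refl (A' ⊗[R] B) (A' ⊗[R] B)) e)).restrictScalars
      (A' ⊗[R] B)).restrictScalars A'
    ⟨fun h => haveI : Module.Flat A' (LocalizedModule Q.primeCompl ((A' ⊗[R] B) ⊗[B] M)) := h
      Module.Flat.of_linearEquiv e'.symm,
    fun h => haveI : Module.Flat A' (LocalizedModule Q.primeCompl ((A' ⊗[R] B) ⊗[B] N)) := h
      Module.Flat.of_linearEquiv e'⟩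
  exact ⟨fun h Q _ h1 h2 => (key Q).mp (h Q h1 h2), fun h Q _ h1 h2 => (key Q).mpr (h Q h1 h2)⟩

theorem good_of_subsingleton {B : Type u} [CommRing B] [Algebra R B] (q : Ideal B) (M : Type u) [AddCommGroup M]
    [Module B M] [Subsingleton M] (A' : Type u) [CommRing A'] [IsLocalRing A'] [Algebra R A'] : Good R q M A' := by
  intro Q _ _ _
  show Module.Flat A' (LocalizedModule Q.primeCompl ((A' ⊗[R] B) ⊗[B] M))
  haveI : Subsingleton ((A' ⊗[R] B) ⊗[B] M) := subsingleton_of_forall_eq 0 fun x => by
    induction x with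
    | zero => rfl
    | tmul a m => rw [Subsingleton.elim m 0, TensorProduct.tmul_zero]
    | add a b ha hb => rw [ha, hb, add_zero]
  exact RGFlat.flatAt_of_flat (R := A') Q

variable {A : Type u} [CommRing A] [IsLocalRing A] [Algebra R A] (hs : Function.Surjective (algebraMap R A))
  (rr : Ideal R) [rr.IsPrime] (hrr : (maximalIdeal A).comap (algebraMap R A) = rr)

include hs hrr in
/-- One step over the quotient `A` of `R`. -/
theorem hasIdeal_step {B : Type u} [CommRing B] [Algebra R B] [Algebra.Smooth R B]
    (hgeom : FlatCA.GeomIrredFibres R B) [(rr.map (algebraMap R B)).IsPrime] (q : Ideal B) [q.IsPrime] [q.LiesOver rr]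
    {M : Type u} [AddCommGroup M] [Module B M] {C : Type u} [AddCommGroup C] [Module B C]
    {r : ℕ} (α : (Fin r → B) →ₗ[B] M) (π : M →ₗ[B] C) (hπ : Function.Surjective π) (hex : Function.Exact α π)
    (hα : Function.Injective (α.baseChange (rr.map (algebraMap R B)).ResidueField))
    (hC : HasIdeal R A q C) : HasIdeal R A q M := by
  let BA := A ⊗[R] B
  have hsB : Function.Surjective (algebraMap B BA) := TensorProduct.mk_surjective R B A hs
  haveI := HP.DevStep.projective_of_smooth hgeom
  haveI : Module.Free A BA := S0582.result A BA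
  have hdom : ∀ (K : Type u) [Field K] [Algebra A K], IsDomain (K ⊗[A] BA) := fun K _ _ => by
    letI : Algebra R K := ((algebraMap A K).comp (algebraMap R A)).toAlgebra
    haveI : IsScalarTower R A K := IsScalarTower.of_algebraMap_eq fun _ => rfl
    haveI := S1223.isDomain_tensor (HP.DevStep.geomIntegral hgeom) K
    exact (Algebra.TensorProduct.cancelBaseChange R A K K B).toRingEquiv.toMulEquiv.isDomain _
  let p := rr.map (algebraMap R B)
  have hrrq : p ≤ q := Ideal.map_le_iff_le_comap.mpr (q.over_def rr).le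
  -- the kernel of `B → BA` is small
  have hker : RingHom.ker (algebraMap B BA) ≤ p := by
    let eA : (R ⧸ RingHom.ker (Algebra.ofId R A)) ≃ₐ[R] A := Ideal.quotientKerAlgEquivOfSurjective hs
    let φ : A →ₐ[R] B ⧸ p := (Ideal.Quotient.liftₐ (RingHom.ker (Algebra.ofId R A)) (Algebra.ofId R (B ⧸ p))
      fun a ha => by
        show algebraMap R (B ⧸ p) a = 0
        rw [IsScalarTower.algebraMap_apply R B (B ⧸ p)]
        refine Ideal.Quotient.eq_zero_iff_mem.mpr (Ideal.mem_map_of_mem _ ?_)
        rw [← hrr, Ideal.mem_comap, show algebraMap R A a = 0 from ha]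
        exact zero_mem _).comp eA.symm.toAlgHom
    intro b hb
    have hb' : (1 : A) ⊗ₜ[R] b = 0 := hb
    let Ψ : BA →ₐ[R] B ⧸ p := Algebra.TensorProduct.lift φ (Ideal.Quotient.mkₐ R p) fun _ _ => Commute.all _ _
    have h0 : Ψ ((1 : A) ⊗ₜ[R] b) = φ 1 * Ideal.Quotient.mkₐ R p b := Algebra.TensorProduct.lift_tmul _ _ _ _ _
    have h1 : Ideal.Quotient.mkₐ R p b = 0 := by
      rw [hb', map_zero, map_one, one_mul] at h0
      exact h0.symm
    exact Ideal.Quotient.eq_zero_iff_mem.mp h1
  have hm : (maximalIdeal A).map (algebraMap A BA) = p.map (algebraMap B BA) := by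
    rw [Ideal.map_map, show (algebraMap B BA).comp (algebraMap R B) = (algebraMap A BA).comp (algebraMap R A) from
      RingHom.ext fun a => ((Algebra.TensorProduct.includeRight (R := R) (A := A) (B := B)).commutes a).trans
        (IsScalarTower.algebraMap_apply R A BA a), ← Ideal.map_map, ← hrr, Ideal.map_comap_of_surjective _ hs]
  haveI : ((maximalIdeal A).map (algebraMap A BA)).IsPrime := by
    rw [hm]; exact Ideal.map_isPrime_of_surjective hsB hker
  have hcomap : p = ((maximalIdeal A).map (algebraMap A BA)).comap (Algebra.ofId B BA) := by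
    rw [hm]
    refine le_antisymm Ideal.le_comap_map ?_
    show (p.map (algebraMap B BA)).comap (algebraMap B BA) ≤ p
    rw [Ideal.comap_map_of_surjective' _ hsB]
    exact sup_le le_rfl hker
  let qA := q.map (algebraMap B BA)
  haveI : qA.IsPrime := Ideal.map_isPrime_of_surjective hsB (hker.trans hrrq)
  have hqA : qA.comap (algebraMap B BA) = q := by
    rw [Ideal.comap_map_of_surjective' _ hsB]
    exact sup_eq_left.mpr (hker.trans hrrq)
  haveI : qA.LiesOver (maximalIdeal A) := ⟨by
    refine Ideal.comap_injective_of_surjective _ hs ?_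
    rw [hrr, q.over_def rr]
    ext a
    show algebraMap R B a ∈ q ↔ algebraMap A BA (algebraMap R A a) ∈ qA
    rw [← hqA, Ideal.mem_comap, ← IsScalarTower.algebraMap_apply R A BA,
      show algebraMap B BA (algebraMap R B a) = algebraMap R BA a from
        (Algebra.TensorProduct.includeRight (R := R) (A := A) (B := B)).commutes a]⟩
  obtain ⟨J, hJ⟩ := hC
  have hC' : ∃ J : Ideal A, ∀ (A' : Type u) [CommRing A'] [IsLocalRing A'] [Algebra A A']
      [IsLocalHom (algebraMap A A')], Good A qA (BA ⊗[B] C) A' ↔ J.map (algebraMap A A') = ⊥ :=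
    ⟨J, fun A' _ _ _ _ => by
      letI : Algebra R A' := ((algebraMap A A').comp (algebraMap R A)).toAlgebra
      haveI : IsScalarTower R A A' := IsScalarTower.of_algebraMap_eq fun _ => rfl
      exact (good_iff_baseChange C q qA hqA A'
        (fun P _ h _ => Ideal.comap_injective_of_surjective _ hsB (h.trans hqA.symm))).symm.trans (hJ A')⟩
  obtain ⟨I, hI⟩ := step hdom qA (bcMap R α A) (π.baseChange BA) (LinearMap.lTensor_surjective BA hπ)
    (exact_bcMap α π hπ hex A) (bcMap_residue p α hα A _ hcomap) hC'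
  exact ⟨I, fun A' _ _ _ _ _ _ => (good_iff_baseChange M q qA hqA A'
    (fun P _ h _ => Ideal.comap_injective_of_surjective _ hsB (h.trans hqA.symm))).trans (hI A')⟩

include hs hrr in
/-- The ideal for a complete dévissage. -/
theorem hasIdeal_of_devissage {S : Type u} [CommRing S] [Algebra R S] {N : Type u} [AddCommGroup N] [Module S N]
    (D : FlatCA.CompleteDevissage R S N rr) (qs : Ideal S) [qs.IsPrime]
    (E : FlatCA.CompleteDevissageAt R S N rr qs D) : HasIdeal R A qs N := by
  haveI := E.hqA
  haveI := E.hqB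
  haveI := E.overA
  haveI := E.overB
  have hB : ∀ i, i < D.n → HasIdeal R A (E.qB i) (D.M i) → HasIdeal R A (E.qA i) (D.M i) := fun i hi h => by
    haveI := D.finiteBA i hi
    refine HasIdeal.of_iff (fun A' _ _ _ => (good_iff_of_finite (D.M i) (E.qB i) (E.qA i) ((E.qA i).over_def (E.qB i)).symm
      (fun P _ hP => E.uniq i hi P ⟨hP.symm⟩) A').symm) h
  have hall : ∀ k i, i + k + 1 = D.n → HasIdeal R A (E.qA i) (D.M i) := by
    intro k
    induction k with
    | zero =>
      intro i hi
      have hlt : i < D.n := by omega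
      haveI := D.smooth i hlt
      refine hB i hlt (hasIdeal_step hs rr hrr (D.geomIrred i hlt) (E.qB i) (D.α i) (LinearMap.range (D.α i)).mkQ
        (Submodule.mkQ_surjective _) (LinearMap.exact_map_mkQ_range _) (D.fibreIso i hlt).1 ?_)
      have hlast : Function.Surjective (D.α i) := by
        have := D.cokerLast
        rwa [show D.n - 1 = i by omega] at this
      haveI : Subsingleton (D.M i ⧸ LinearMap.range (D.α i)) :=
        Submodule.Quotient.subsingleton_iff.mpr (LinearMap.range_eq_top.mpr hlast)
      exact ⟨⊥, fun A' _ _ _ _ _ _ => iff_of_true (good_of_subsingleton _ _ A') Ideal.map_bot⟩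
    | succ k ih =>
      intro i hi
      have hlt : i < D.n := by omega
      have hlt' : i + 1 < D.n := by omega
      haveI := D.smooth i hlt
      refine hB i hlt (hasIdeal_step hs rr hrr (D.geomIrred i hlt) (E.qB i) (D.α i) (LinearMap.range (D.α i)).mkQ
        (Submodule.mkQ_surjective _) (LinearMap.exact_map_mkQ_range _) (D.fibreIso i hlt).1 ?_)
      haveI : Module.Finite (D.B i) (D.A (i + 1)) :=
        Module.Finite.of_surjective (Algebra.linearMap _ _) (D.surjBA' i hlt')
      refine HasIdeal.of_iff (fun A' _ _ _ => (good_congr (D.isoCoker i hlt') A').trans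
        (good_iff_of_finite (D.M (i + 1)) (E.qB i) (E.qA (i + 1)) (E.qStep i hlt')
          (fun P _ hP => Ideal.comap_injective_of_surjective _ (D.surjBA' i hlt') (hP.trans (E.qStep i hlt').symm)) A'))
        (ih (i + 1) (by omega))
  have h0 := hall (D.n - 1) 0 (by have := D.pos; omega)
  haveI : Module.Finite S (D.A 0) := Module.Finite.of_surjective (Algebra.linearMap _ _) D.surjSA
  exact HasIdeal.of_iff (fun A' _ _ _ => (good_congr D.isoN A').trans
    (good_iff_of_finite (D.M 0) qs (E.qA 0) E.q0
      (fun P _ hP => Ideal.comap_injective_of_surjective _ D.surjSA (hP.trans E.q0.symm)) A')) h0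

end Groth.Agent.FlatLocusIdeal
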