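import Groth.Agent.FlatLocusIdeal.Basic
import Groth.Agent.CAlg48.QRBase

/-!
One step: flatness of `M` at the primes above `q` is flatness of the cokernel of `α` together with the
vanishing of the coefficients of the kernel of `α`.
-/

set_option autoImplicit false
set_option linter.style.haveILetI false

universe u

open TensorProduct IsLocalRing

attribute [local instance] Algebra.TensorProduct.rightAlgebra

namespace Groth.Agent.FlatLocusIdeal

variable {A B : Type u} [CommRing A] [IsLocalRing A] [CommRing B] [Algebra A B] [Module.Free A B]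
  {M : Type u} [AddCommGroup M] [Module B M] [Module A M] [IsScalarTower A B M]
  {C : Type u} [AddCommGroup C] [Module B C]

variable (hgeom : ∀ (K : Type u) [Field K] [Algebra A K], IsDomain (K ⊗[A] B)) (q : Ideal B) [q.IsPrime] [q.LiesOver (maximalIdeal A)]
  {r : ℕ} (α : (Fin r → B) →ₗ[B] M) (π : M →ₗ[B] C) (hπ : Function.Surjective π) (hex : Function.Exact α π)

include hπ hex in
omit [IsLocalRing A] [Module.Free A B] [Module A M] [IsScalarTower A B M] in
/-- The cokernel of the base change. -/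
theorem flatAt_coker_iff (A' : Type u) [CommRing A'] [Algebra A A'] (Q : Ideal (A' ⊗[A] B)) [Q.IsPrime] :
    Module.Flat A' (LocalizedModule Q.primeCompl (((A' ⊗[A] B) ⊗[B] M) ⧸ LinearMap.range (bcMap A α A'))) ↔
      Module.Flat A' (LocalizedModule Q.primeCompl ((A' ⊗[A] B) ⊗[B] C)) := by
  let e₀ : (((A' ⊗[A] B) ⊗[B] M) ⧸ LinearMap.range (bcMap A α A')) ≃ₗ[A' ⊗[A] B] (A' ⊗[A] B) ⊗[B] C :=
    (Submodule.quotEquivOfEq _ _ (LinearMap.exact_iff.mp (exact_bcMap α π hπ hex A')).symm).trans
      ((π.baseChange (A' ⊗[A] B)).quotKerEquivOfSurjective (LinearMap.lTensor_surjective (A' ⊗[A] B) hπ))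
  let e := ((HP.locEquiv Q.primeCompl e₀).restrictScalars (A' ⊗[A] B)).restrictScalars A'
  exact ⟨fun h => Module.Flat.of_linearEquiv e.symm, fun h => Module.Flat.of_linearEquiv e⟩

omit [IsLocalRing A] [Module.Free A B] [Module A M] [IsScalarTower A B M] in
/-- The base change of a map injective at the point `p` stays injective at a point over it. -/
theorem bcMap_residue (p : Ideal B) [p.IsPrime] {r : ℕ} (α : (Fin r → B) →ₗ[B] M) (hα : Function.Injective (α.baseChange p.ResidueField))
    (A' : Type u) [CommRing A'] [Algebra A A'] (p' : Ideal (A' ⊗[A] B)) [p'.IsPrime]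
    (hcomap : p = p'.comap (Algebra.ofId B (A' ⊗[A] B))) :
    Function.Injective ((bcMap A α A').baseChange p'.ResidueField) := by
  let B' := A' ⊗[A] B
  let L := p'.ResidueField
  let jκ : p.ResidueField →ₐ[B] L := Ideal.ResidueField.mapₐ p p' (Algebra.ofId B B') hcomap
  letI : Algebra p.ResidueField L := jκ.toRingHom.toAlgebra
  haveI : IsScalarTower B p.ResidueField L := IsScalarTower.of_algebraMap_eq fun x => (jκ.commutes x).symm
  have hL : Function.Injective (α.baseChange L) := by
    have h1 : Function.Injective ((α.baseChange p.ResidueField).lTensor L) :=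
      Module.Flat.lTensor_preserves_injective_linearMap _ hα
    have h2 : ∀ z, α.baseChange L (AlgebraTensorModule.cancelBaseChange B p.ResidueField L L (Fin r → B) z) =
        AlgebraTensorModule.cancelBaseChange B p.ResidueField L L M ((α.baseChange p.ResidueField).lTensor L z) := by
      intro z
      induction z with
      | zero => simp
      | tmul a w =>
        induction w with
        | zero => simp
        | tmul b y => simp
        | add w₁ w₂ h₁ h₂ => simp only [TensorProduct.tmul_add, map_add, h₁, h₂]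
      | add w₁ w₂ h₁ h₂ => simp only [map_add, h₁, h₂]
    intro x y hxy
    obtain ⟨x, rfl⟩ := (AlgebraTensorModule.cancelBaseChange B p.ResidueField L L (Fin r → B)).surjective x
    obtain ⟨y, rfl⟩ := (AlgebraTensorModule.cancelBaseChange B p.ResidueField L L (Fin r → B)).surjective y
    rw [h2, h2] at hxy
    exact congrArg _ (h1 ((AlgebraTensorModule.cancelBaseChange B p.ResidueField L L M).injective hxy))
  show Function.Injective ((bcMap A α A').baseChange L)
  rw [injective_iff_map_eq_zero]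
  intro x hx
  let l : Fin r → L := fun i => TensorProduct.rid B' L ((LinearMap.proj (R := B') (φ := fun _ : Fin r => B') i).lTensor L x)
  have hxl : x = ∑ i, l i ⊗ₜ[B'] (Pi.single i (1 : B') : Fin r → B') := by
    clear hx
    induction x with
    | zero => simp [l]
    | tmul a v =>
      conv_lhs => rw [pi_eq_sum_univ' v, TensorProduct.tmul_sum]
      refine Finset.sum_congr rfl fun i _ => ?_
      rw [← TensorProduct.smul_tmul]
      rfl
    | add x y hx hy =>
      conv_lhs => rw [hx, hy]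
      rw [← Finset.sum_add_distrib]
      exact Finset.sum_congr rfl fun i _ => by simp [l, TensorProduct.add_tmul]
  have hz : α.baseChange L (∑ i, l i ⊗ₜ[B] (Pi.single i (1 : B) : Fin r → B)) = 0 := by
    have h3 := congrArg (AlgebraTensorModule.cancelBaseChange B B' L L M) hx
    rw [hxl, map_sum, map_zero, map_sum] at h3
    rw [map_sum, ← h3]
    refine Finset.sum_congr rfl fun i _ => ?_
    rw [LinearMap.baseChange_tmul, LinearMap.baseChange_tmul, bcMap_single,
      AlgebraTensorModule.cancelBaseChange_tmul, one_smul]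
  have h4 := hL (hz.trans (map_zero _).symm)
  have hl : ∀ j, l j = 0 := fun j => by
    have h5 := congrArg ((TensorProduct.rid B L).toLinearMap ∘ₗ
      (LinearMap.proj (R := B) (φ := fun _ : Fin r => B) j).lTensor L) h4
    simpa [Pi.single_apply] using h5
  rw [hxl]
  exact Finset.sum_eq_zero fun i _ => by rw [hl, TensorProduct.zero_tmul]

include hgeom hπ hex in
/-- Forward direction. -/
theorem step_fwd [((maximalIdeal A).map (algebraMap A B)).IsPrime]
    (hα : Function.Injective (α.baseChange ((maximalIdeal A).map (algebraMap A B)).ResidueField))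
    (A' : Type u) [CommRing A'] [IsLocalRing A'] [Algebra A A'] [IsLocalHom (algebraMap A A')]
    (hgood : Good A q M A') : Function.Injective (bcMap A α A') ∧ Good A q C A' := by
  let B' := A' ⊗[A] B
  let M' := B' ⊗[B] M
  haveI := isPrime_map hgeom A'
  let p := (maximalIdeal A).map (algebraMap A B)
  let p' := (maximalIdeal A').map (algebraMap A' B')
  have hcomap : p = p'.comap (Algebra.ofId B B') := le_antisymm
    (Ideal.map_le_iff_le_comap.mpr fun a ha => by
      show algebraMap B B' (algebraMap A B a) ∈ p'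
      rw [show algebraMap B B' (algebraMap A B a) = algebraMap A' B' (algebraMap A A' a) from
        ((Algebra.TensorProduct.includeRight (R := A) (A := A') (B := B)).commutes a).trans
          (IsScalarTower.algebraMap_apply A A' B' a)]
      exact Ideal.mem_map_of_mem _ (map_nonunit (algebraMap A A') a ha))
    fun b hb => mem_map_of_mem A' b hb
  have hα' := bcMap_residue p α hα A' p' hcomap
  have hQ : ∀ (Q : Ideal B') [Q.IsPrime], Q.comap (algebraMap B B') = q →
      Q.comap (algebraMap A' B') = maximalIdeal A' →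
      Function.Injective (bcMap A α A') ∧ FlatCA.FlatAt A' Q (B' ⊗[B] C) := by
    intro Q _ hQq hQm
    haveI : Q.LiesOver (maximalIdeal A') := ⟨hQm.symm⟩
    obtain ⟨h1, h2⟩ := HP.DevStep.step (R := A') Q M' (hgood Q hQq hQm) (bcMap A α A') hα'
    refine ⟨fun a b hab => ?_, ?_⟩
    · have h3 := h1 A' (a₁ := a ⊗ₜ[A'] (1 : A')) (a₂ := b ⊗ₜ[A'] (1 : A')) (by
        show bcMap A α A' a ⊗ₜ[A'] (1 : A') = bcMap A α A' b ⊗ₜ[A'] (1 : A')
        rw [hab])
      simpa using congrArg (TensorProduct.rid A' (Fin r → B')) h3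
    · exact (flatAt_coker_iff α π hπ hex A' Q).mp h2
  obtain ⟨Q₀, hQ₀p, hQ₀q, hQ₀m⟩ := exists_prime (A := A) q A'
  haveI := hQ₀p
  exact ⟨(hQ Q₀ hQ₀q hQ₀m).1, fun Q _ h1 h2 => (hQ Q h1 h2).2⟩

include hex in
/-- The elements of the kernel of the reduced map die after a base change killing `J` and the coefficients. -/
theorem map_eq_zero_of_ker (J : Ideal A) (A' : Type u) [CommRing A'] [Algebra A A']
    (ρ : (A ⧸ J) →ₐ[A] A')
    (hcoef : ∀ y : Fin r → B, α y ∈ J • (⊤ : Submodule A M) → ∀ i, algebraMap B (A' ⊗[A] B) (y i) = 0)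
    (k : Fin r → (A ⧸ J) ⊗[A] B) (hk : bcMap A α (A ⧸ J) k = 0) (i : Fin r) :
    Algebra.TensorProduct.map ρ (AlgHom.id A B) (k i) = 0 := by
  have hsurj : Function.Surjective (algebraMap B ((A ⧸ J) ⊗[A] B)) :=
    TensorProduct.mk_surjective A B (A ⧸ J) Ideal.Quotient.mk_surjective
  choose y hy using fun j => hsurj (k j)
  have h1 : (1 : (A ⧸ J) ⊗[A] B) ⊗ₜ[B] α y = 0 := by
    rw [← bcMap_map, show (fun j => algebraMap B ((A ⧸ J) ⊗[A] B) (y j)) = k from funext hy]
    exact hk
  have h2 := congrArg (Algebra.IsPushout.cancelBaseChange A (A ⧸ J) B ((A ⧸ J) ⊗[A] B) M) h1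
  rw [map_zero] at h2
  have h3 : Algebra.IsPushout.cancelBaseChange A (A ⧸ J) B ((A ⧸ J) ⊗[A] B) M ((1 : (A ⧸ J) ⊗[A] B) ⊗ₜ[B] α y) =
      (1 : A ⧸ J) ⊗ₜ[A] α y := by
    rw [← LinearEquiv.eq_symm_apply, Algebra.IsPushout.cancelBaseChange_symm_tmul, map_one]
  rw [h3] at h2
  have h4 := congrArg (TensorProduct.quotTensorEquivQuotSMul M J) h2
  rw [map_zero, show (1 : A ⧸ J) = Ideal.Quotient.mk J 1 from rfl,
    TensorProduct.quotTensorEquivQuotSMul_mk_tmul, one_smul, Submodule.Quotient.mk_eq_zero] at h4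
  rw [← hy i]
  show ρ 1 ⊗ₜ[A] y i = 0
  rw [map_one]
  exact hcoef y h4 i

omit [IsLocalRing A] [Module.Free A B] [Module A M] [IsScalarTower A B M] in
/-- Transport of the kernel along an algebra map `R → A'`. -/
theorem exists_smul_eq_zero {R A' : Type u} [CommRing R] [CommRing A'] [Algebra A R] [Algebra A A'] [Algebra R A']
    [IsScalarTower A R A'] (Q : Ideal (A' ⊗[A] B)) [Q.IsPrime]
    (hK : ∀ k : Fin r → R ⊗[A] B, bcMap A α R k = 0 → ∀ i,
      Algebra.TensorProduct.map (IsScalarTower.toAlgHom A R A') (AlgHom.id A B) (k i) = 0)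
    [Module.Flat R (LocalizedModule (Q.comap (Algebra.TensorProduct.map (IsScalarTower.toAlgHom A R A')
      (AlgHom.id A B))).primeCompl (((R ⊗[A] B) ⊗[B] M) ⧸ LinearMap.range (bcMap A α R)))]
    (z : Fin r → A' ⊗[A] B) (hz : bcMap A α A' z = 0) : ∃ t : A' ⊗[A] B, t ∉ Q ∧ t • z = 0 := by
  let θ := Algebra.TensorProduct.map (IsScalarTower.toAlgHom A R A') (AlgHom.id A B)
  let Q₁ := Q.comap θ
  let u := bcMap A α R
  let K := LinearMap.ker u
  let u₁ : ((Fin r → R ⊗[A] B) ⧸ K) →ₗ[R ⊗[A] B] (R ⊗[A] B) ⊗[B] M := K.liftQ u le_rfl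
  haveI : Module.Flat R (LocalizedModule Q₁.primeCompl (((R ⊗[A] B) ⊗[B] M) ⧸ LinearMap.range u₁)) := by
    haveI : Module.Flat R (LocalizedModule Q₁.primeCompl (((R ⊗[A] B) ⊗[B] M) ⧸ LinearMap.range u)) := ‹_›
    exact Module.Flat.of_linearEquiv (((HP.locEquiv Q₁.primeCompl
      (Submodule.quotEquivOfEq _ _ (Submodule.range_liftQ _ _ _ : LinearMap.range u₁ = LinearMap.range u))).restrictScalars
        (R ⊗[A] B)).restrictScalars R)
  let Φ : (Fin r → R ⊗[A] B) ⊗[R] A' →+ (Fin r → A' ⊗[A] B) := TensorProduct.liftAddHom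
    { toFun := fun v =>
        { toFun := fun a i => a • θ (v i)
          map_zero' := funext fun i => zero_smul _ _
          map_add' := fun a b => funext fun i => add_smul _ _ _ }
      map_zero' := AddMonoidHom.ext fun a => funext fun i => by simp
      map_add' := fun v w => AddMonoidHom.ext fun a => funext fun i => by simp }
    fun c v a => funext fun i => by
      show a • θ ((c • v) i) = (c • a) • θ (v i)
      rw [Pi.smul_apply, Algebra.smul_def c (v i), map_mul, Algebra.smul_def c a, mul_comm (algebraMap R A' c) a,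
        mul_smul, Algebra.smul_def (algebraMap R A' c) (θ (v i))]
      rfl
  let ψ : Fin r → A' ⊗[A] B →+ (Fin r → R ⊗[A] B) ⊗[R] A' := fun i => TensorProduct.liftAddHom
    { toFun := fun a =>
        { toFun := fun b => (Pi.single i ((1 : R) ⊗ₜ[A] b) : Fin r → R ⊗[A] B) ⊗ₜ[R] a
          map_zero' := by simp
          map_add' := fun b b' => by rw [TensorProduct.tmul_add, Pi.single_add, TensorProduct.add_tmul] }
      map_zero' := AddMonoidHom.ext fun b => by simp
      map_add' := fun a a' => AddMonoidHom.ext fun b => by simp [TensorProduct.tmul_add] }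
    fun c a b => by
      show (Pi.single i ((1 : R) ⊗ₜ[A] b) : Fin r → R ⊗[A] B) ⊗ₜ[R] (c • a) =
        (Pi.single i ((1 : R) ⊗ₜ[A] (c • b)) : Fin r → R ⊗[A] B) ⊗ₜ[R] a
      rw [TensorProduct.tmul_smul, TensorProduct.tmul_smul, Pi.single_smul, TensorProduct.smul_tmul']
  let Ψ : (Fin r → A' ⊗[A] B) →+ (Fin r → R ⊗[A] B) ⊗[R] A' :=
    { toFun := fun z => ∑ i, ψ i (z i)
      map_zero' := by simp
      map_add' := fun z w => by simp [Finset.sum_add_distrib] }
  have hΦΨ : ∀ z, Φ (Ψ z) = z := by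
    intro z
    show Φ (∑ i, ψ i (z i)) = z
    rw [map_sum]
    conv_rhs => rw [← Finset.univ_sum_single z]
    refine Finset.sum_congr rfl fun i _ => ?_
    induction z i with
    | zero => simp
    | tmul a b =>
      funext j
      show a • θ ((Pi.single i ((1 : R) ⊗ₜ[A] b) : Fin r → R ⊗[A] B) j) = _
      rcases eq_or_ne j i with rfl | hj
      · simp [θ, TensorProduct.smul_tmul']
      · simp [Pi.single_eq_of_ne hj]
    | add x y hx hy => rw [map_add, map_add, hx, hy, Pi.single_add]
  let ω : A' ⊗[A] B →+ M →+ ((R ⊗[A] B) ⊗[B] M) ⊗[R] A' := TensorProduct.liftAddHom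
    { toFun := fun a =>
        { toFun := fun b =>
            { toFun := fun m => (((1 : R) ⊗ₜ[A] b) ⊗ₜ[B] m) ⊗ₜ[R] a
              map_zero' := by simp
              map_add' := fun m m' => by rw [TensorProduct.tmul_add, TensorProduct.add_tmul] }
          map_zero' := AddMonoidHom.ext fun m => by simp
          map_add' := fun b b' => AddMonoidHom.ext fun m => by simp [TensorProduct.tmul_add, TensorProduct.add_tmul] }
      map_zero' := AddMonoidHom.ext fun b => AddMonoidHom.ext fun m => by simp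
      map_add' := fun a a' => AddMonoidHom.ext fun b => AddMonoidHom.ext fun m => by simp [TensorProduct.tmul_add] }
    fun c a b => AddMonoidHom.ext fun m => by
      show (((1 : R) ⊗ₜ[A] b) ⊗ₜ[B] m) ⊗ₜ[R] (c • a) = (((1 : R) ⊗ₜ[A] (c • b)) ⊗ₜ[B] m) ⊗ₜ[R] a
      rw [TensorProduct.tmul_smul, TensorProduct.tmul_smul, TensorProduct.smul_tmul', TensorProduct.smul_tmul']
  let ΨW : (A' ⊗[A] B) ⊗[B] M →+ ((R ⊗[A] B) ⊗[B] M) ⊗[R] A' := TensorProduct.liftAddHom ω fun b₀ x m => by
    symm
    show ω x (b₀ • m) = ω (b₀ • x) m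
    induction x with
    | zero => simp
    | tmul a b =>
      rw [Algebra.smul_def b₀, show algebraMap B (A' ⊗[A] B) b₀ = (1 : A') ⊗ₜ[A] b₀ from rfl,
        Algebra.TensorProduct.tmul_mul_tmul, one_mul]
      show (((1 : R) ⊗ₜ[A] b) ⊗ₜ[B] (b₀ • m)) ⊗ₜ[R] a = (((1 : R) ⊗ₜ[A] (b₀ * b)) ⊗ₜ[B] m) ⊗ₜ[R] a
      rw [← TensorProduct.smul_tmul, Algebra.smul_def b₀, show algebraMap B (R ⊗[A] B) b₀ = (1 : R) ⊗ₜ[A] b₀ from rfl,
        Algebra.TensorProduct.tmul_mul_tmul, one_mul]
    | add x y hx hy => rw [map_add, smul_add, map_add, AddMonoidHom.add_apply, AddMonoidHom.add_apply, hx, hy]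
  have hcomm : ∀ z, (u.restrictScalars R).rTensor A' (Ψ z) = ΨW (bcMap A α A' z) := by
    intro z
    conv_rhs => rw [← Finset.univ_sum_single z, map_sum, map_sum]
    show (u.restrictScalars R).rTensor A' (∑ i, ψ i (z i)) = _
    rw [map_sum]
    refine Finset.sum_congr rfl fun i _ => ?_
    rw [bcMap_single]
    induction z i with
    | zero => simp
    | tmul a b =>
      show bcMap A α R (Pi.single i ((1 : R) ⊗ₜ[A] b)) ⊗ₜ[R] a = _
      rw [bcMap_single]
      rfl
    | add x y hx hy => rw [map_add, map_add, TensorProduct.add_tmul, map_add, hx, hy]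
  let w := Ψ z
  have hw : (u.restrictScalars R).rTensor A' w = 0 := by rw [hcomm, hz, map_zero]
  have hw₁ : (u₁.restrictScalars R).rTensor A' ((K.mkQ.restrictScalars R).rTensor A' w) = 0 := by
    rw [← LinearMap.rTensor_comp_apply]
    exact hw
  obtain ⟨t, ht, htw⟩ := RGFlat.exists_smul_eq_zero_of_coker Q₁.primeCompl u₁ (fun v hv => ⟨1, one_mem _, by
    rw [one_smul]
    exact LinearMap.ker_eq_bot.mp (Submodule.ker_liftQ_eq_bot _ _ _ le_rfl) (hv.trans (map_zero _).symm)⟩) A' _ hw₁
  have htw' : (K.mkQ.restrictScalars R).rTensor A' (t • w) = 0 :=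
    ((AlgebraTensorModule.rTensor R A' K.mkQ).map_smul t w).trans htw
  have hexK : Function.Exact (K.subtype.restrictScalars R) (K.mkQ.restrictScalars R) :=
    LinearMap.exact_subtype_mkQ K
  obtain ⟨k, hk⟩ := ((rTensor_exact A' hexK K.mkQ_surjective) (t • w)).mp htw'
  refine ⟨θ t, ht, ?_⟩
  have hΦ : ∀ w, Φ (t • w) = θ t • Φ w := fun w => by
    induction w with
    | zero => simp
    | tmul v a =>
      rw [TensorProduct.smul_tmul']
      funext i
      show a • θ (t * v i) = θ t * (a • θ (v i))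
      rw [map_mul, mul_smul_comm]
    | add x y hx hy => rw [smul_add, map_add, map_add, hx, hy, smul_add]
  have hΦ0 : Φ (t • w) = 0 := by
    rw [← hk]
    clear hk
    induction k with
    | zero => simp
    | tmul v a =>
      funext i
      show a • θ ((v : Fin r → R ⊗[A] B) i) = 0
      rw [hK v v.2 i, smul_zero]
    | add x y hx hy => rw [map_add, map_add, hx, hy, add_zero]
  rwa [hΦ, hΦΨ] at hΦ0

include hπ hex in
/-- Backward direction. -/
theorem step_bwd (J : Ideal A)
    (hJ : ∀ (A' : Type u) [CommRing A'] [IsLocalRing A'] [Algebra A A'] [IsLocalHom (algebraMap A A')],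
      J.map (algebraMap A A') = ⊥ → Good A q C A')
    (A' : Type u) [CommRing A'] [IsLocalRing A'] [Algebra A A'] [IsLocalHom (algebraMap A A')]
    (hJA' : J.map (algebraMap A A') = ⊥)
    (hcoef : ∀ y : Fin r → B, α y ∈ J • (⊤ : Submodule A M) → ∀ i, algebraMap B (A' ⊗[A] B) (y i) = 0) :
    Good A q M A' := by
  intro Q _ hQq hQm
  have hJtop : J ≠ ⊤ := fun h => by
    rw [h, Ideal.map_top] at hJA'
    exact top_ne_bot hJA'
  haveI : Nontrivial (A ⧸ J) := Ideal.Quotient.nontrivial_iff.mpr hJtop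
  haveI : IsLocalRing (A ⧸ J) := IsLocalRing.of_surjective' (Ideal.Quotient.mk J) Ideal.Quotient.mk_surjective
  haveI : IsLocalHom (algebraMap A (A ⧸ J)) := IsLocalHom.of_surjective _ Ideal.Quotient.mk_surjective
  let ρ : (A ⧸ J) →ₐ[A] A' := Ideal.Quotient.liftₐ J (Algebra.ofId A A') fun a ha => by
    have := Ideal.mem_map_of_mem (algebraMap A A') ha
    rwa [hJA', Ideal.mem_bot] at this
  letI : Algebra (A ⧸ J) A' := ρ.toRingHom.toAlgebra
  haveI : IsScalarTower A (A ⧸ J) A' := IsScalarTower.of_algebraMap_eq fun a => (ρ.commutes a).symm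
  let θ := Algebra.TensorProduct.map (IsScalarTower.toAlgHom A (A ⧸ J) A') (AlgHom.id A B)
  have hQ₁q : (Q.comap θ).comap (algebraMap B ((A ⧸ J) ⊗[A] B)) = q := by
    rw [← hQq]
    ext b
    show ρ 1 ⊗ₜ[A] b ∈ Q ↔ (1 : A') ⊗ₜ[A] b ∈ Q
    rw [map_one]
  have hQ₁m : (Q.comap θ).comap (algebraMap (A ⧸ J) ((A ⧸ J) ⊗[A] B)) = maximalIdeal (A ⧸ J) := by
    haveI : IsLocalHom (algebraMap (A ⧸ J) A') := ⟨fun x hx => by
      obtain ⟨a, rfl⟩ := Ideal.Quotient.mk_surjective x
      rw [show algebraMap (A ⧸ J) A' (Ideal.Quotient.mk J a) = algebraMap A A' a from ρ.commutes a] at hx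
      exact (IsUnit.of_map (algebraMap A A') a hx).map (Ideal.Quotient.mk J)⟩
    rw [← IsLocalRing.maximalIdeal_comap (algebraMap (A ⧸ J) A')]
    ext x
    show ρ x ⊗ₜ[A] (1 : B) ∈ Q ↔ ρ x ∈ maximalIdeal A'
    rw [← hQm]
    exact Iff.rfl
  haveI hflat : Module.Flat (A ⧸ J) (LocalizedModule (Q.comap θ).primeCompl
      ((((A ⧸ J) ⊗[A] B) ⊗[B] M) ⧸ LinearMap.range (bcMap A α (A ⧸ J)))) := by
    haveI : Module.Flat (A ⧸ J) (LocalizedModule (Q.comap θ).primeCompl (((A ⧸ J) ⊗[A] B) ⊗[B] C)) :=
      hJ (A ⧸ J) (by rw [Ideal.Quotient.algebraMap_eq, Ideal.map_quotient_self]) (Q.comap θ) hQ₁q hQ₁m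
    exact (flatAt_coker_iff α π hπ hex (A ⧸ J) (Q.comap θ)).mpr this
  let B' := A' ⊗[A] B
  let T := Q.primeCompl
  haveI : Module.Flat A' (LocalizedModule T (B' ⊗[B] C)) := hJ A' hJA' Q hQq hQm
  haveI : Module.Flat A' (LocalizedModule T (Fin r → B')) := FlatMor.FlatAtBC.flat_localizedModule A' T _
  let αq := LocalizedModule.map T (bcMap A α A')
  let πq := LocalizedModule.map T (π.baseChange B')
  have hexT : Function.Exact αq πq := LocalizedModule.map_exact T (bcMap A α A') (π.baseChange B') (exact_bcMap α π hπ hex A')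
  have hsT : Function.Surjective πq := LocalizedModule.map_surjective T _ (LinearMap.lTensor_surjective B' hπ)
  let f : LocalizedModule T (Fin r → B') →ₗ[A'] LocalizedModule T (B' ⊗[B] M) := (αq.restrictScalars B').restrictScalars A'
  let g : LocalizedModule T (B' ⊗[B] M) →ₗ[A'] LocalizedModule T (B' ⊗[B] C) := (πq.restrictScalars B').restrictScalars A'
  have hinjT : Function.Injective αq := by
    rw [injective_iff_map_eq_zero]
    intro x hx
    induction x using LocalizedModule.induction_on with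
    | h v s =>
      rw [LocalizedModule.map_mk, RGFlat.mk_eq_zero_iff] at hx
      obtain ⟨t, ht⟩ := hx
      rw [← map_smul] at ht
      obtain ⟨t', ht', h'⟩ := exists_smul_eq_zero α Q
        (fun k hk i => map_eq_zero_of_ker α π hex J A' ρ hcoef k hk i) _ ht
      rw [RGFlat.mk_eq_zero_iff]
      exact ⟨⟨t', ht'⟩ * t, by show (t' * (t : B')) • v = 0; rw [mul_smul]; exact h'⟩
  have hfl : Module.Flat A' (LocalizedModule T (B' ⊗[B] M)) := CAlg48.QRBase.flat_of_exact (X := LocalizedModule T (Fin r → B')) (Y := LocalizedModule T (B' ⊗[B] M)) (Z := LocalizedModule T (B' ⊗[B] C)) f g hexT hsT hinjT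
  exact hfl

include hgeom hπ hex in
/-- One step. -/
theorem step [((maximalIdeal A).map (algebraMap A B)).IsPrime]
    (hα : Function.Injective (α.baseChange ((maximalIdeal A).map (algebraMap A B)).ResidueField))
    (hC : ∃ J : Ideal A, ∀ (A' : Type u) [CommRing A'] [IsLocalRing A'] [Algebra A A'] [IsLocalHom (algebraMap A A')],
      Good A q C A' ↔ J.map (algebraMap A A') = ⊥) :
    ∃ I : Ideal A, ∀ (A' : Type u) [CommRing A'] [IsLocalRing A'] [Algebra A A'] [IsLocalHom (algebraMap A A')],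
      Good A q M A' ↔ I.map (algebraMap A A') = ⊥ := by
  classical
  obtain ⟨J, hJ⟩ := hC
  let β := Module.Free.chooseBasis A B
  refine ⟨J ⊔ Ideal.span {c | ∃ (y : Fin r → B) (i : Fin r) (j : Module.Free.ChooseBasisIndex A B),
    α y ∈ J • (⊤ : Submodule A M) ∧ c = β.repr (y i) j}, fun A' _ _ _ _ => ?_⟩
  rw [Ideal.map_sup, sup_eq_bot_iff]
  have hcoord : ∀ (b : B) j, (β.baseChange A').repr (algebraMap B (A' ⊗[A] B) b) j =
      algebraMap A A' (β.repr b j) := fun b j => by
    rw [show algebraMap B (A' ⊗[A] B) b = (1 : A') ⊗ₜ[A] b from rfl, Module.Basis.baseChange_repr_tmul,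
      ← Algebra.algebraMap_eq_smul_one]
  constructor
  · intro hgood
    obtain ⟨hinj, hCg⟩ := step_fwd hgeom q α π hπ hex hα A' hgood
    have hJ' := (hJ A').mp hCg
    refine ⟨hJ', ?_⟩
    rw [Ideal.map_span, Ideal.span_eq_bot]
    rintro _ ⟨c, ⟨y, i, j, hy, rfl⟩, rfl⟩
    have h0 : (1 : A' ⊗[A] B) ⊗ₜ[B] α y = 0 := by
      refine Submodule.smul_induction_on hy (fun a ha m _ => ?_) fun u v hu hv => by
        rw [TensorProduct.tmul_add, hu, hv, add_zero]
      have ha0 : algebraMap A A' a = 0 := by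
        have := Ideal.mem_map_of_mem (algebraMap A A') ha
        rwa [hJ', Ideal.mem_bot] at this
      rw [← IsScalarTower.algebraMap_smul B a m, ← TensorProduct.smul_tmul, Algebra.smul_def, mul_one]
      rw [show algebraMap B (A' ⊗[A] B) (algebraMap A B a) = algebraMap A' (A' ⊗[A] B) (algebraMap A A' a) from
        ((Algebra.TensorProduct.includeRight (R := A) (A := A') (B := B)).commutes a).trans
          (IsScalarTower.algebraMap_apply A A' (A' ⊗[A] B) a), ha0, map_zero, TensorProduct.zero_tmul]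
    rw [← bcMap_map] at h0
    have h1 := congrFun (hinj (h0.trans (map_zero _).symm)) i
    rw [← hcoord, h1]
    simp
  · rintro ⟨hJ', hc⟩
    rw [Ideal.map_span, Ideal.span_eq_bot] at hc
    refine step_bwd q α π hπ hex J (fun A'' _ _ _ _ h => (hJ A'').mpr h) A' hJ' fun y hy i => ?_
    apply (β.baseChange A').repr.injective
    ext j
    rw [hcoord, hc _ ⟨_, ⟨y, i, j, hy, rfl⟩, rfl⟩]
    simp

end Groth.Agent.FlatLocusIdeal
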